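import Cfsg.Agent.H1.LS5

/-! Existence of subgroups with the basic property. -/

set_option linter.unusedSectionVars false

namespace H1B
open Subgroup Cfsg H7
open scoped commutatorElement

variable {G G' : Type*} [Group G] [Group G'] {A B C D E F H K L M N O P Q R S T U V W X Y Z : Subgroup G} {f : D →* G'}
  {p q r n : ℕ} {π : Set ℕ} {a b c g t x y z : G}
variable [Finite G] [hp : Fact p.Prime]

theorem Par.charP (h : Par p (⊤ : Subgroup G)) (hT : IsSylowIn p T ⊤) (hR : T ≤ R) (hY : IsPGroup p Y) (ne : Y ≠ ⊥)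
    (h1 : Y ≤ R) (h2 : R ≤ nrm Y) : R ∈ charPSubgroups p G :=
  have k : Op p R ≠ ⊥ := fun e => ne (eq_bot_iff.2 ((le_Op h1 h2 hY).trans e.le))
  charP_iff.2 ⟨k, h.cen_Op_le hT hR k⟩

theorem chp_of_charP (h : L ∈ charPSubgroups p G) : ChP p L := inf_le_right.trans (charP_iff.1 h).2

theorem YY_ne_bot (h : L ∈ charPSubgroups p G) : YY p L ≠ ⊥ := by
  obtain ⟨T, hT⟩ := H2.exists_isSylowIn (p := p) L
  exact fun e => Z1_ne_bot hT.2 (fun k => (charP_iff.1 h).1 (eq_bot_iff.2 ((Op_le_of_sylow hT).trans k.le)))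
    (eq_bot_iff.2 ((Z1_le_YY (chp_of_charP h) hT).trans e.le))

theorem exists_frM (h : Par p (⊤ : Subgroup G)) (hT : IsSylowIn p T ⊤) (hTL : T ≤ L) (hL : L ∈ charPSubgroups p G) :
    ∃ M K, T ≤ M ∧ IsInFrakM p M ∧ T ≤ K ∧ K ≤ M ∧ K ∈ charPSubgroups p G ∧ YY p L = YY p K ∧ YY p L ≤ YY p M ∧
      L ⊔ cen (YY p L) = K ⊔ cen (YY p L) := by
  set Y := YY p L with hY
  set D := L ⊔ cen Y with hD
  have s : ∀ X, T ≤ X → IsSylowIn p T X := fun X a => hT.mono a le_top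
  have yT : ∀ X, T ≤ X → YY p X ≤ T := fun X a => (red_YY p X).le_Op.trans (Op_le_of_sylow (s X a))
  have mo : ∀ X Z, T ≤ X → X ≤ Z → Z ∈ charPSubgroups p G → YY p X ≤ YY p Z := fun X Z a b c =>
    YY_mono (chp_of_charP c) (s Z (a.trans b)) a b
  have tD : T ≤ D := hTL.trans le_sup_left
  have g1 : ∀ X, T ≤ X → X ∈ charPSubgroups p G → D ≤ D ⊓ X ⊔ cen Y → Y ≤ YY p X := fun X a b c =>
    ((red_YY p L).congr ((yT L hTL).trans (le_inf tD a)) (le_antisymm c (sup_le inf_le_left le_sup_right))).le_YY.trans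
      (mo _ X (le_inf tD a) inf_le_right b)
  obtain ⟨X, ⟨x1, x2, x3⟩, hX⟩ := Set.exists_max_image {X | T ≤ X ∧ X ∈ charPSubgroups p G ∧ D ≤ D ⊓ X ⊔ cen Y}
    (fun X => ord (YY p X)) (Set.toFinite _) ⟨L, hTL, hL, sup_le_sup_right (le_inf le_sup_left le_rfl) _⟩
  set W := YY p X with hW
  have w0 := YY_ne_bot x2
  have wp := (ea_YY p X).isPGroup
  have xF : X ≤ nrm W := (red_YY p X).norm
  have tF := x1.trans xF
  have cF := h.charP hT tF wp w0 (le_nrm_self _) le_rfl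
  have yW := cen_anti (g1 X x1 x2 x3)
  have m : ∀ Z, T ≤ Z → Z ∈ charPSubgroups p G → D ≤ D ⊓ Z ⊔ cen Y → W ≤ YY p Z → YY p Z = W := fun Z a b c d =>
    (eq_of_le_of_card_ge d (hX Z ⟨a, b, c⟩)).symm
  have gF : D ≤ D ⊓ nrm W ⊔ cen Y := x3.trans (sup_le_sup_right (inf_le_inf_left _ xF) _)
  have eF := m _ tF cF gF (mo _ _ x1 xF cF)
  obtain ⟨M, hM⟩ := exists_minimal_of_wellFoundedLT (fun M => T ≤ M ∧ M ⊔ cen W = nrm W) ⟨_, tF, sup_eq_left.2 (cen_le_nrm _)⟩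
  obtain ⟨m1, m2⟩ := hM.prop
  have mF : M ≤ nrm W := le_sup_left.trans m2.le
  have cM := h.charP hT m1 wp w0 ((yT X x1).trans m1) mF
  have eM : YY p M = W := le_antisymm (eF ▸ mo _ _ m1 mF cF)
    ((eF ▸ red_YY p (nrm W) : Red p W _).congr ((yT X x1).trans m1) (by rw [m2, sup_eq_left.2 (cen_le_nrm _)])).le_YY
  have gM : D ≤ D ⊓ M ⊔ cen Y := gF.trans (sup_le (by
    rw [inf_comm, ← m2, (prm_of_nrm (nrm_cen mF)).modular' (yW.trans le_sup_right), inf_comm]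
    exact sup_le_sup_left yW _) le_sup_right)
  have u : ∀ Z ∈ charPSubgroups p G, M ≤ Z → Z ≤ nrm W := fun Z a b => by
    rw [← m Z (m1.trans b) a (gM.trans (sup_le_sup_right (inf_le_inf_left _ b) _)) (eM ▸ mo _ _ m1 b a)]
    exact (red_YY p Z).norm
  have mm : ∀ U, T ≤ U → U ≤ M → M ≤ U ⊔ M ⊓ cen W → U = M := fun U a b c => le_antisymm b (hM.le_of_le ⟨a, le_antisymm
    (sup_le (b.trans mF) (cen_le_nrm _)) (m2.ge.trans (sup_le (c.trans (sup_le_sup_left inf_le_right _)) le_sup_right))⟩ b)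
  have nC : M ≤ nrm (M ⊓ cen W) := nrm_inf (le_nrm_self _) (nrm_cen mF)
  have sC := syl_inf (s M m1) inf_le_left (m1.trans nC)
  have pc : PCl p (M ⊓ cen W) := pcl_of_nrm sC (inf_le_left.trans ((mm _ (le_inf m1 (nrm_inf (le_nrm_self _) (m1.trans nC)))
    inf_le_left (syl_frattini sC inf_le_left nC).ge).ge.trans inf_le_right))
  obtain ⟨k1, k2, k3⟩ := YY_nrm (M := D ⊓ M) (chp_of_charP hL) (s L hTL) (s _ (le_inf tD m1))
    (le_antisymm (sup_le inf_le_left le_sup_right) gM)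
  refine ⟨M, _, m1, ?_, k3, inf_le_left.trans inf_le_right, h.charP hT k3 (ea_YY p L).isPGroup (YY_ne_bot hL)
    ((yT L hTL).trans k3) ((red_YY p _).norm.trans (congrArg (fun X : Subgroup G => nrm X) k1).le), k1.symm, g1 M m1 cM gM, k2⟩
  rw [IsInFrakM, YY_eq, YY_eq, eM, m2, eF]
  refine ⟨cM, ⟨cF, fun Z a b => le_antisymm (u Z a (mF.trans b)) b⟩, fun Z a b => (a.2 _ cF (u Z a.1 b)).symm, rfl,
    pcl_iff.2 pc, H1.le_frattini_iff.2 fun U' hU => by_contra fun c => hU.1 ?_⟩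
  let φ := QuotientGroup.mk' (pCore p M)
  have kφ : kr φ = Op p M := by rw [kr_mk', pCore_map]
  have t : im φ M = ⊤ := im_mk'_dom _
  have e : U' ⊔ im φ (M ⊓ cen W) = ⊤ := H1.coatom_sup_eq_top hU c
  have oU : Op p M ≤ pre φ U' := kφ ▸ kr_le_pre φ U'
  have e2 : M ≤ pre φ U' ⊔ M ⊓ cen W := by
    refine (pre_top φ).ge.trans ?_
    rw [← e, pre_sup (t ▸ le_top) (t ▸ le_top), pre_im inf_le_left, kφ]
    exact sup_le le_sup_left (sup_le le_sup_right (oU.trans le_sup_left))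
  obtain ⟨P, hP⟩ := H2.exists_isSylowIn (p := p) (pre φ U')
  have sP := syl_of_sup hP (pre_le φ U') nC e2 fun R _ b _ =>
    (pc.le_Op_of_sn (SN.of_normal inf_le_left nC) inf_le_left (b.to_le inf_le_right)).trans
      (hP.le_of_normal (isPGroup_Op p M) oU ((hP.1.trans (pre_le φ U')).trans (le_nrm_Opi _ _)))
  obtain ⟨x, hx, ex⟩ := sP.exists_cj_eq (s M m1)
  have := mm (cj x (pre φ U')) (ex ▸ H7.cj_mono x hP.1) (cj_le_of_mem hx (pre_le φ U')) (by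
    have := H7.cj_mono x e2
    rwa [cj_of_mem hx, H7.cj_sup, cj_of_mem_nrm (nC hx)] at this)
  rw [H7.cj_eq_iff, cj_of_mem (inv_mem hx)] at this
  rw [← im_pre_of_le (f := φ) (A := M) (B := U') (t ▸ le_top), this, t]

theorem ChP.pg_chain (h : ChP p H) (hC : C ≤ H) (hD : IsPGroup p D) (hE : IsPGroup p E) (h1 : C ≤ cmod D (Op p H))
    (h2 : C ≤ cmod E D) (h3 : C ≤ cen E) : IsPGroup p C :=
  h.pg hC (pRes_le_cen_of_chain hD (by rw [Subgroup.commutator_comm]; exact (le_cmod.1 h1).2)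
    (pRes_le_cen_of_chain hE (by rw [Subgroup.commutator_comm]; exact (le_cmod.1 h2).2) ((H2.pRes_le _).trans h3)))

theorem FrH.min_main (h : FrH p M H) (hM : FrM p S M) (ha : Asym (YY p M)) (hL : L ≤ H) (k : MinO (YY p M) L N)
    (h1 : ¬ YY p M ≤ Op p L) (h2 : YY p M ≤ Op p N) :
    N ≤ nrm (YY p M) ∧ Op p H ≤ nrm L ∧ Op p L ⊓ YY p M ≤ Op p H := by
  have hw := hM.wc ha
  have e0 := h.sup_O (k.le.trans k.lt.le) hL h1
  have r0 := h.pRes_le
  have n0 := h.ncl_O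
  have yH := h.Y_le
  have nO := hM.nrmO
  set Y := YY p M with hY
  set O := Op p M with hO
  set B := Op p H with hB
  have pB : IsPGroup p B := isPGroup_Op p H
  have nB : H ≤ nrm B := le_nrm_Opi _ H
  have bH : B ≤ H := Opi_le _ H
  have bO : B ≤ nrm O := hM.le_nrmO ha pB (h.le.trans nB)
  have bY : B ≤ nrm Y := bO.trans nO
  have yL : Y ≤ L := k.le.trans k.lt.le
  have oY : O ≤ cen Y := hM.O_le
  have yO : Y ≤ O := hM.Y_le
  have eY : EA p Y := ea_YY p M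
  obtain ⟨g, gL, gN⟩ := SetLike.exists_of_lt k.lt
  have eL := k.sup_cj gL gN
  have gH := hL gL
  have cB : cj g B = B := cj_of_mem_nrm (nB gH)
  have e1 : cj g Y ⊔ O = H := le_antisymm (sup_le (cj_le_of_mem gH yH) h.le)
    (e0.ge.trans (sup_le (eL.ge.trans (sup_le (yO.trans le_sup_right) le_sup_left)) le_sup_right))
  have e2 : Y ⊔ cj g O = H := by
    have := congrArg (cj g) e0
    rw [H7.cj_sup, cj_of_mem gL, cj_of_mem gH] at this
    exact le_antisymm (sup_le yH (cj_le_of_mem gH h.le))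
      (this.ge.trans (sup_le (eL.ge.trans (sup_le_sup_left (H7.cj_mono g yO) _)) le_sup_right))
  have oY' : cj g O ≤ cen (cj g Y) := by rw [← cj_cen]; exact H7.cj_mono g oY
  have bY' : B ≤ nrm (cj g Y) := by rw [← cj_nrm, ← cB]; exact H7.cj_mono g bY
  have eW : EA p (cj g Y) := eY.cj g
  have wH : cj g Y ≤ H := cj_le_of_mem gH yH
  have wL : cj g Y ≤ L := cj_le_of_mem gL yL
  have cU : cj g (B ⊓ Y) = B ⊓ cj g Y := by rw [H7.cj_inf, cB]
  have cE : cj g (B ⊓ cen Y) = B ⊓ cen (cj g Y) := by rw [H7.cj_inf, cB, cj_cen]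
  set W := cj g Y with hW
  have u1 : ⁅B, Y⁆ ≤ B ⊓ Y := comm_le_inf bY (yH.trans nB)
  have u2 : ⁅B, W⁆ ≤ B ⊓ W := comm_le_inf bY' (wH.trans nB)
  have u3 : ⁅B, O⁆ ≤ B ⊓ cen Y := (comm_le_inf bO (h.le.trans nB)).trans (inf_le_inf_left _ oY)
  have nU : B ≤ nrm (B ⊓ Y) := nrm_inf (le_nrm_self _) bY
  have nU' : B ≤ nrm (B ⊓ W) := nrm_inf (le_nrm_self _) bY'
  have nE : B ≤ nrm (B ⊓ cen Y) := nrm_inf (le_nrm_self _) (nrm_cen bY)
  have uE : B ⊓ Y ≤ B ⊓ cen Y := inf_le_inf_left _ eY.le_cen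
  have bL : B ≤ nrm L := eL ▸ nrm_sup bY bY'
  -- the subgroup `D`
  have dB : B ⊓ cen Y ⊔ B ⊓ W ≤ B := sup_le inf_le_left inf_le_left
  have hD : H ≤ cmod (B ⊓ cen Y ⊔ B ⊓ W) B := e1.ge.trans (sup_le
    (le_cmod.2 ⟨le_nrm_of_comm_le' dB (u2.trans le_sup_right), by rw [Subgroup.commutator_comm]; exact u2.trans le_sup_right⟩)
    (le_cmod.2 ⟨le_nrm_of_comm_le' dB (u3.trans le_sup_left), by rw [Subgroup.commutator_comm]; exact u3.trans le_sup_left⟩))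
  have nD := (le_cmod.1 hD).1
  have aB : B ⊓ Y ⊔ B ⊓ W ≤ B := sup_le inf_le_left inf_le_left
  have nA : L ≤ nrm (B ⊓ Y ⊔ B ⊓ W) :=
    eL.ge.trans (sup_le (le_nrm_of_comm_le' aB (u1.trans le_sup_left)) (le_nrm_of_comm_le' aB (u2.trans le_sup_right)))
  have eF : B ⊓ cen Y ≤ B ⊓ Y ⊔ B ⊓ cen L := by
    have a : B ⊓ cen Y ≤ B ⊓ Y ⊔ B ⊓ cen W := by
      have d : B ⊓ cen Y ⊔ B ⊓ W = B ⊓ cen Y ⊔ (B ⊓ Y ⊔ B ⊓ W) := by rw [← sup_assoc, sup_eq_left.2 uE]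
      have := cj_of_mem_nrm (nD gH)
      rw [d, H7.cj_sup, cE, cj_of_mem_nrm (nA gL)] at this
      exact le_sup_left.trans (this.ge.trans (sup_le le_sup_right (sup_le_sup_left (inf_le_inf_left _ eW.le_cen) _)))
    intro x hx
    obtain ⟨u, hu, v, hv, rfl⟩ := (mem_sup_nrm' (inf_le_left.trans nU)).1 (a hx)
    refine mul_mem_sup hu (mem_inf.2 ⟨hv.1, ?_⟩)
    rw [← eL, cen_sup]
    exact mem_inf.2 ⟨(mul_mem_cancel_left (H := cen Y) (uE hu).2).1 hx.2, hv.2⟩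
  have key : ∀ t ∈ L, t ∈ nrm (B ⊓ Y) → t ∈ nrm Y := fun t tL tU => by
    have t1 : zpowers t ≤ nrm (B ⊓ Y) := zpowers_le.2 tU
    have t2 : zpowers t ≤ H := zpowers_le.2 (hL tL)
    have t3 : ⁅B ⊓ cen Y, zpowers t⁆ ≤ B ⊓ Y := (commutator_mono eF le_rfl).trans (comm_sup_le (le_nrm_self _)
      (inf_le_left.trans nU) (comm_le_left t1) ((comm_eq_bot.2 (inf_le_right.trans (cen_anti (zpowers_le.2 tL)))).le.trans bot_le))
    have t4 : zpowers t ≤ nrm (B ⊓ cen Y) := le_nrm_of_comm_le (t3.trans uE)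
    have o1 : O ≤ cen (B ⊓ Y) := oY.trans (cen_anti inf_le_right)
    have o2 : O ≤ nrm (B ⊓ cen Y) := le_nrm_of_comm_le' inf_le_left u3
    have nR : ∀ X, X ≤ H → X ≤ nrm (B ⊓ Y) → X ≤ nrm (B ⊓ cen Y) →
        X ≤ nrm (H ⊓ cmod (B ⊓ cen Y) B ⊓ cen (B ⊓ Y)) ∧ X ≤ nrm (H ⊓ cmod (B ⊓ cen Y) B ⊓ cen (B ⊓ Y) ⊓ cmod (B ⊓ Y) (B ⊓ cen Y)) :=
      fun X a b c => have := nrm_inf (nrm_inf (a.trans (le_nrm_self _)) (nrm_cmod c (a.trans nB))) (nrm_cen b)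
        ⟨this, nrm_inf this (nrm_cmod b c)⟩
    set R := H ⊓ cmod (B ⊓ cen Y) B ⊓ cen (B ⊓ Y) with hR
    have oR : O ≤ R := le_inf (le_inf h.le (le_cmod.2 ⟨o2, by rw [Subgroup.commutator_comm]; exact u3⟩)) o1
    have pR : IsPGroup p (R ⊓ cmod (B ⊓ Y) (B ⊓ cen Y) : Subgroup G) := h.chp.pg_chain (inf_le_left.trans (inf_le_left.trans inf_le_left))
      (pB.to_le inf_le_left) (pB.to_le inf_le_left) (inf_le_left.trans (inf_le_left.trans inf_le_right)) inf_le_right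
      (inf_le_left.trans inf_le_right)
    have c1 : ⁅zpowers t, O⁆ ≤ R := (commutator_mono le_rfl oR).trans (comm_le_right (nR _ t2 t1 t4).1)
    have c2 : ⁅zpowers t, O⁆ ≤ cmod (B ⊓ Y) (B ⊓ cen Y) := le_cmod.2 ⟨(c1.trans inf_le_right).trans (cen_le_nrm _),
      three_subgroups t1 (o1.trans (cen_le_nrm _)) (inf_le_left.trans nU) ((commutator_mono (comm_le_right o2) le_rfl).trans t3)
        ((commutator_mono t3 le_rfl).trans (comm_le_left (o1.trans (cen_le_nrm _))))⟩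
    have o3 := (nR _ h.le (o1.trans (cen_le_nrm _)) o2).2
    have t5 := (nR _ t2 t1 t4).2
    refine nO (hw.nrm_le (H7.isPGroup_sup o3 (isPGroup_Op p M) pR) le_sup_left (zpowers_le.1 (le_nrm_of_comm_le ?_)))
    refine comm_sup_le (le_sup_left.trans (le_nrm_self _)) (le_sup_right.trans (le_nrm_self _)) ?_ ((comm_le_left t5).trans le_sup_right)
    rw [Subgroup.commutator_comm]
    exact (le_inf c1 c2).trans le_sup_right
  have zH : Y ⊓ W ≤ cen H := e1 ▸ le_cen_sup (inf_le_right.trans eW.le_cen) (inf_le_left.trans (le_cen_symm oY))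
  have nZ : H ≤ nrm (Y ⊓ W) := (le_cen_symm zH).trans (cen_le_nrm _)
  have aL : B ⊓ Y ⊔ B ⊓ W ≤ L := sup_le (inf_le_right.trans yL) (inf_le_right.trans wL)
  obtain ⟨T, hT, yT⟩ := H2.exists_isSylowIn_ge eY.isPGroup k.le
  have oN := k.Op_le hT yT
  have aO := le_Op aL nA (pB.to_le aB)
  have nU1 : ¬ B ⊓ Y ≤ cen L := fun c => by
    have a : B ⊓ Y ≤ cen H := e0 ▸ le_cen_sup c (inf_le_right.trans (le_cen_symm oY))
    have b := comm_ncl_le' (yH.trans ((le_cen_symm a).trans (cen_le_nrm _))) u1 ((le_cen_symm a).trans (cen_le_nrm _)) nB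
    have d := pRes_le_cen_of_quad pB ((H2.pRes_le H).trans nB) (((commutator_mono le_rfl r0).trans b).trans (a.trans (cen_anti (H2.pRes_le H))))
    rw [pRes_of_le le_rfl (H2.pRes_le H)] at d
    exact h.not_le (yH.trans (Op_eq_self (h.chp.pg le_rfl d)).ge)
  have z2 : (B ⊓ Y ⊔ B ⊓ W) ⊓ cmod (Y ⊓ W) Y ≤ B ⊓ Y := fun x hx => by
    obtain ⟨u, hu, v, hv, rfl⟩ := (mem_sup_nrm' (inf_le_left.trans nU)).1 hx.1
    have uc : B ⊓ Y ≤ cmod (Y ⊓ W) Y := le_cmod.2 ⟨(inf_le_right.trans yH).trans nZ,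
      (comm_eq_bot.2 (inf_le_right.trans eY.le_cen)).le.trans bot_le⟩
    have wc : Y ⊓ W ≤ cmod (Y ⊓ W) Y := le_cmod.2 ⟨le_nrm_self _, (comm_eq_bot.2 (inf_le_left.trans eY.le_cen)).le.trans bot_le⟩
    have a : cj g O ≤ cen (W ⊓ cmod (Y ⊓ W) Y) := oY'.trans (cen_anti inf_le_left)
    have b : H ≤ nrm (W ⊓ cmod (Y ⊓ W) Y) := e2.ge.trans (sup_le
      (le_nrm_of_comm_le ((le_cmod.1 inf_le_right).2.trans (le_inf inf_le_right wc))) (a.trans (cen_le_nrm _)))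
    have c : H ≤ cen (W ⊓ cmod (Y ⊓ W) Y) := n0.ge.trans (H1.ncl_le (by
      rw [← cj_of_mem_nrm (nrm_cen b (inv_mem gH)), ← H7.cj_le_iff]; exact a) (nrm_cen b))
    have d : v ∈ cen H := le_cen_symm c (mem_inf.2 ⟨hv.2, (mul_mem_cancel_left (uc hu)).1 hx.2⟩)
    refine mul_mem hu (mem_inf.2 ⟨hv.1, ?_⟩)
    have := mem_cj'.1 hv.2
    obtain ⟨y, hy, e⟩ := this
    have e' : y = v := by rw [← mul_left_cancel_iff (a := g), mem_cen.1 d g gH, ← e]; group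
    exact e' ▸ hy
  have nN : N ≤ nrm Y := by
    have aN := le_Op (aO.trans oN) (k.lt.le.trans nA) (pB.to_le aB)
    have zA : Y ⊓ W ⊓ B < B ⊓ Y ⊔ B ⊓ W := lt_of_le_of_ne ((le_inf inf_le_right (inf_le_left.trans inf_le_left)).trans le_sup_left)
      fun e => nU1 (((le_sup_left.trans e.ge).trans inf_le_left).trans (zH.trans (cen_anti hL)))
    have nH := k.lt.le.trans hL
    obtain ⟨d, d1, d2, d3⟩ := nilp_exists_comm_le (nilp_of_isPGroup (isPGroup_Op p N)) aN zA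
      (((Opi_le _ _).trans k.lt.le).trans nA) (((Opi_le _ _).trans nH).trans (nrm_inf nZ nB))
    set U := (B ⊓ Y ⊔ B ⊓ W) ⊓ cmod (Y ⊓ W) (Op p N) with hU
    have dU : d ∈ U := mem_inf.2 ⟨d1, mem_cmod.2 ⟨nZ (bH (aB d1)), fun c hc => (d3 c hc).1⟩⟩
    have uY : U ≤ B ⊓ Y := (inf_le_inf_left _ (fun x hx => mem_cmod.2 ⟨hx.1, fun c hc => hx.2 c (h2 hc)⟩)).trans z2
    have n1 : N ≤ nrm U := nrm_inf (k.lt.le.trans nA) (nrm_cmod (nH.trans nZ) (le_nrm_Opi _ _))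
    have n2 : O ≤ cen U := oY.trans (cen_anti (uY.trans inf_le_right))
    have y2 : Y ≤ Op p (N ⊔ O) := by_contra fun c => d2 (by
      have a : H ≤ nrm U := (h.eq_of le_sup_right (sup_le nH h.le) c).ge.trans (sup_le n1 (n2.trans (cen_le_nrm _)))
      refine mem_inf.2 ⟨mem_inf.2 ⟨(uY dU).2, ?_⟩, (uY dU).1⟩
      have b : H ≤ cen U := n0.ge.trans (H1.ncl_le n2 (nrm_cen a))
      have := H7.conj_mem_cj (g := g).2 (uY dU).2
      rwa [mem_cen.1 (le_cen_symm b dU) g gH, mul_inv_cancel_right] at this)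
    have ea := hM.ea_ncl ha le_sup_right y2
    intro t ht
    refine key t (k.lt.le ht) (mem_nrm_of_cj_le (le_trans (le_inf (cj_le_of_mem_nrm (nA (k.lt.le ht)) le_sup_left) ?_) z2))
    refine le_cmod.2 ⟨(cj_le_of_mem (nH ht) (inf_le_left.trans bH)).trans nZ, (comm_eq_bot.2 ?_).le.trans bot_le⟩
    exact ((H7.cj_mono t inf_le_right).trans (cj_le_of_mem_nrm (H1.le_nrm_ncl (mem_sup_left ht)) H1.le_ncl)).trans
      (ea.le_cen.trans (cen_anti H1.le_ncl))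
  refine ⟨nN, bL, ?_⟩
  have l1 : Op p L ≤ nrm Y := oN.trans nN
  have l2 : Op p L ≤ nrm W := by
    rw [hW, ← cj_nrm, ← cj_of_mem_nrm (le_nrm_Opi {p} L gL)]; exact H7.cj_mono g l1
  have pZ : IsPGroup p (Y ⊓ W : Subgroup G) := eY.isPGroup.to_le inf_le_left
  refine le_trans (le_inf (inf_le_right.trans yH) (le_cmod.2 ⟨(inf_le_right.trans yH).trans nZ, ?_⟩))
    (le_Op inf_le_left (nrm_inf (le_nrm_self _) (nrm_cmod nZ nD)) (h.chp.pg_chain inf_le_left (pB.to_le dB) pZ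
      (inf_le_left.trans hD) inf_le_right (inf_le_left.trans (le_cen_symm zH))))
  refine comm_sup_le' ((inf_le_left.trans bH).trans nZ) ((inf_le_left.trans bH).trans nZ)
    ((comm_eq_bot'.2 (inf_le_right.trans (cen_anti inf_le_right))).le.trans bot_le) (le_inf ?_ ?_)
  · exact (commutator_mono inf_le_right le_rfl).trans (comm_le_left (inf_le_left.trans bY))
  · exact (commutator_mono inf_le_left inf_le_right).trans (comm_le_right l2)

end H1B
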