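import Mathlib.RingTheory.Polynomial.Cyclotomic.Eval
import Mathlib.RingTheory.Polynomial.Cyclotomic.Expand
import Mathlib.NumberTheory.Multiplicity
import Mathlib.FieldTheory.Finite.Basic

/-! Zsigmondy's theorem for `a ^ n - 1`. -/

namespace H1B
open Polynomial Finset

theorem zs_dvd {a k r : ℕ} (ha : 1 ≤ a) : r ∣ a ^ k - 1 ↔ (a : ZMod r) ^ k = 1 := by
  rw [← ZMod.natCast_eq_zero_iff, Nat.cast_sub (Nat.one_le_pow _ _ ha), sub_eq_zero]; push_cast; rfl

theorem zs_ord {a n r : ℕ} [hr : Fact r.Prime] (hn : n ≠ 0) (h : (r : ℤ) ∣ (cyclotomic n ℤ).eval (a : ℤ)) :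
    ∃ k m, n = r ^ k * m ∧ ¬ r ∣ m ∧ IsPrimitiveRoot (a : ZMod r) m := by
  obtain ⟨k, m, hm, e⟩ := Nat.exists_eq_pow_mul_and_not_dvd hn r hr.out.ne_one
  haveI : NeZero (m : ZMod r) := ⟨fun c => hm ((ZMod.natCast_eq_zero_iff _ _).1 c)⟩
  refine ⟨k, m, e, hm, (isRoot_cyclotomic_prime_pow_mul_iff_of_charP (k := k) (p := r)).1 ?_⟩
  have := (ZMod.intCast_zmod_eq_zero_iff_dvd _ r).2 h
  rw [← e, IsRoot, ← map_cyclotomic_int, ← Int.cast_natCast, eval_intCast_map]
  exact this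

theorem zs_sq {a m r : ℕ} [hr : Fact r.Prime] (ha : 1 < a) (hm : m ≠ 0) (h1 : (a : ZMod r) ^ m = 1) (h2 : r = 2 → 2 ∣ m) :
    ¬ (r : ℤ) ^ 2 ∣ (cyclotomic (m * r) ℤ).eval (a : ℤ) := fun c => by
  have d := eval_dvd (x := (a : ℤ)) (X_pow_sub_one_mul_cyclotomic_dvd_X_pow_sub_one_of_dvd ℤ (Nat.mem_properDivisors.2
    ⟨dvd_mul_right m r, lt_mul_of_one_lt_right (Nat.pos_of_ne_zero hm) hr.out.one_lt⟩))
  simp only [eval_mul, eval_sub, eval_pow, eval_X, eval_one] at d
  have n0 : (a : ℤ) ^ m - 1 ≠ 0 := by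
    have : 1 < a ^ m := Nat.one_lt_pow hm ha
    have : (1 : ℤ) < (a : ℤ) ^ m := by exact_mod_cast this
    omega
  have hx : (r : ℤ) ∣ (a : ℤ) ^ m - 1 := (ZMod.intCast_zmod_eq_zero_iff_dvd _ r).1 (by push_cast; rw [h1, sub_self])
  rw [pow_mul, ← one_pow r, ← geom_sum₂_mul, one_pow, mul_comm] at d
  have d2 := c.trans ((mul_dvd_mul_iff_right n0).1 d)
  rcases hr.out.eq_two_or_odd' with rfl | o
  · obtain ⟨j, rfl⟩ := h2 rfl
    simp only [sum_range_succ, range_zero, sum_empty] at d2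
    rw [mul_comm 2 j, pow_mul] at d2
    generalize (a : ℤ) ^ j = b at d2
    obtain ⟨t, e⟩ := d2
    have e' : b ^ 2 + 1 = 4 * t := by push_cast at e; linarith
    rcases Int.even_or_odd' b with ⟨u, rfl | rfl⟩
    · have : 4 * (u * u - t) + 1 = 0 := by linarith
      omega
    · have : 4 * (u * u + u - t) + 2 = 0 := by linarith
      omega
  · have hp := Nat.prime_iff_prime_int.1 hr.out
    have := emultiplicity_geom_sum₂_eq_one hp o hx fun k => hp.not_dvd_one (by simpa using dvd_sub k hx)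
    exact (emultiplicity_eq_coe.1 (this.trans Nat.cast_one.symm)).2 d2

theorem zs_ineq {a r : ℕ} (ha : 2 ≤ a) (hr : 5 ≤ r ∨ (3 ≤ r ∧ 3 ≤ a)) : r * (a + 1) + 1 < a ^ r := by
  rcases hr with h | ⟨h, h3⟩
  · induction r, h using Nat.le_induction with
    | base => nlinarith [Nat.pow_le_pow_left ha 4, pow_succ a 4]
    | succ n hn ih => rw [pow_succ]; nlinarith [Nat.mul_le_mul ih.le ha, Nat.mul_le_mul_right a hn]
  · induction r, h using Nat.le_induction with
    | base => nlinarith [Nat.pow_le_pow_left h3 2, pow_succ a 2]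
    | succ n hn ih => rw [pow_succ]; nlinarith [Nat.mul_le_mul ih.le ha, Nat.mul_le_mul_right a hn]

theorem zsigmondy {a n : ℕ} (ha : 1 < a) (hn : 1 < n) (h6 : ¬ (a = 2 ∧ n = 6)) (h2 : ¬ (n = 2 ∧ ∃ m : ℕ, a + 1 = 2 ^ m)) :
    ∃ r : ℕ, r.Prime ∧ r ∣ a ^ n - 1 ∧ ∀ k : ℕ, 0 < k → k < n → ¬ r ∣ a ^ k - 1 := by
  by_contra c
  set N := ((cyclotomic n ℤ).eval (a : ℤ)).natAbs with hN
  have key : ∀ r, r.Prime → r ∣ N → ∃ k m, n = r ^ (k + 1) * m ∧ m ∣ r - 1 ∧ (a : ZMod r) ^ m = 1 := fun r hr d => by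
    haveI := Fact.mk hr
    obtain ⟨k, m, e, hm, p⟩ := zs_ord (a := a) (by omega : n ≠ 0) (Int.natCast_dvd.2 d)
    have m0 : m ≠ 0 := by rintro rfl; simp at hm
    rcases k with _ | k
    · rw [pow_zero, one_mul] at e
      subst e
      exact (c ⟨r, hr, (zs_dvd ha.le).2 p.pow_eq_one, fun k k0 k1 h => p.pow_ne_one_of_pos_of_lt k0.ne' k1
        ((zs_dvd ha.le).1 h)⟩).elim
    exact ⟨k, m, e, p.dvd_of_pow_eq_one _ (ZMod.pow_card_sub_one_eq_one (p.ne_zero m0)), p.pow_eq_one⟩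
  have l1 : a - 1 < N := sub_one_lt_natAbs_cyclotomic_eval hn ha.ne'
  obtain ⟨r, hr, d⟩ := Nat.exists_prime_and_dvd (by omega : N ≠ 1)
  haveI := Fact.mk hr
  have un : ∀ {s}, s.Prime → s ∣ N → s = r := by
    have : ∀ s t, s.Prime → t.Prime → s ∣ N → t ∣ N → s ≤ t := fun s t hs ht ds dt => by
      obtain ⟨k, m, e, -⟩ := key s hs ds
      obtain ⟨k', m', e', d', -⟩ := key t ht dt
      rcases (Nat.Prime.dvd_mul hs).1 (e' ▸ e ▸ (dvd_pow_self s k.succ_ne_zero).mul_right m) with h | h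
      · exact Nat.le_of_dvd ht.pos (hs.dvd_of_dvd_pow h)
      · exact (Nat.le_of_dvd (Nat.sub_pos_of_lt ht.one_lt) (h.trans d')).trans (Nat.sub_le _ _)
    exact fun {s} hs ds => le_antisymm (this _ _ hs hr ds d) (this _ _ hr hs d ds)
  have eN := Nat.eq_prime_pow_of_unique_prime_dvd (by omega : N ≠ 0) un
  obtain ⟨k, m, e, dm, am⟩ := key r hr d
  have m0 : m ≠ 0 := by rintro rfl; simp at e; omega
  by_cases n2 : n = 2
  · refine h2 ⟨n2, N.primeFactorsList.length, ?_⟩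
    have : r = 2 := (Nat.prime_dvd_prime_iff_eq hr Nat.prime_two).1 (n2 ▸ e ▸ (dvd_pow_self r k.succ_ne_zero).mul_right m)
    rw [← this, ← eN, hN, n2, cyclotomic_two]
    simp only [eval_add, eval_X, eval_one]
    omega
  have e2 : n = r ^ k * m * r := by rw [e]; ring
  have r2 : r = 2 → m = 1 := by rintro rfl; simpa using dm
  have sq := zs_sq (a := a) (m := r ^ k * m) (r := r) ha (by have := hr.pos; positivity) (by rw [mul_comm, pow_mul, am, one_pow])
    fun h => by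
      rcases k with _ | k
      · rw [r2 h, h] at e; omega
      · exact h ▸ (dvd_pow_self r k.succ_ne_zero).mul_right m
  rw [← e2] at sq
  have Nr : N = r := by
    generalize N.primeFactorsList.length = j at eN
    obtain _ | _ | j := j
    · rw [pow_zero] at eN; omega
    · simpa using eN
    · exact (sq (by exact_mod_cast Int.natCast_dvd.2 (eN ▸ pow_dvd_pow r le_add_self : r ^ 2 ∣ N))).elim
  have ev : ∀ (j b : ℕ), (((cyclotomic j ℤ).eval (b : ℤ) : ℤ) : ℝ) = (cyclotomic j ℝ).eval (b : ℝ) := fun j b => by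
    rw [← map_cyclotomic_int j ℝ, ← Int.cast_natCast (R := ℝ), eval_intCast_map]; rfl
  have pos : (cyclotomic n ℤ).eval (a : ℤ) = r := by
    have := cyclotomic_pos' n (x := (a : ℤ)) (by exact_mod_cast ha)
    omega
  have ar : 1 < a ^ r := Nat.one_lt_pow hr.ne_zero ha
  rcases k with _ | k
  · rw [pow_zero, one_mul] at e2
    have hm : ¬ r ∣ m := fun h => absurd (Nat.le_of_dvd (Nat.sub_pos_of_lt hr.one_lt) (h.trans dm)) (by have := hr.pos; omega)
    have ex := congrArg (eval (a : ℝ)) (cyclotomic_expand_eq_cyclotomic_mul hr hm ℝ)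
    rw [expand_eval, eval_mul, ← e2, ← ev n, pos] at ex
    have a1 : (1 : ℝ) < a := by exact_mod_cast ha
    have b1 := sub_one_pow_totient_le_cyclotomic_eval (q := (a : ℝ) ^ r) (by exact_mod_cast ar) m
    have b2 := cyclotomic_eval_le_add_one_pow_totient a1 m
    have t := Nat.totient_pos.2 (Nat.pos_of_ne_zero m0)
    have r1 : (1 : ℝ) ≤ r := by exact_mod_cast hr.pos
    have b3 : ((a : ℝ) ^ r - 1) ^ m.totient ≤ (r * (a + 1)) ^ m.totient := by
      rw [mul_pow]
      refine (b1.trans_eq ex).trans (mul_le_mul (by exact_mod_cast le_self_pow₀ r1 t.ne') b2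
        (cyclotomic_pos' m a1).le (by positivity))
    have b4 := (pow_le_pow_iff_left₀ (by have : (1 : ℝ) < (a : ℝ) ^ r := by exact_mod_cast ar
                                         linarith) (by positivity) t.ne').1 b3
    have b5 : a ^ r ≤ r * (a + 1) + 1 := by exact_mod_cast sub_le_iff_le_add.1 b4
    have r3 : r ≠ 2 := fun h => n2 (by rw [e2, r2 h, h])
    have r4 : r ≠ 4 := by rintro rfl; exact absurd hr (by decide)
    have := hr.two_le
    obtain ⟨rfl, rfl⟩ : r = 3 ∧ a = 2 := by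
      by_contra c'
      exact (zs_ineq ha (by omega)).not_ge b5
    have : m ≤ 2 := Nat.le_of_dvd (by decide) dm
    obtain rfl | rfl : m = 1 ∨ m = 2 := by omega
    · exact absurd am (by decide)
    · exact h6 ⟨rfl, e2⟩
  · have ex := congrArg (eval (a : ℤ)) (cyclotomic_expand_eq_cyclotomic hr
      ((dvd_pow_self r k.succ_ne_zero).mul_right m) ℤ)
    rw [expand_eval, ← e2, pos] at ex
    have b := sub_one_lt_natAbs_cyclotomic_eval (n := r ^ (k + 1) * m) (q := a ^ r) (hr.one_lt.trans_le (Nat.le_of_dvd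
      (by have := hr.pos; positivity) ((dvd_pow_self r k.succ_ne_zero).mul_right m))) ar.ne'
    rw [Nat.cast_pow, ex] at b
    have := Nat.lt_pow_self (n := r) ha
    omega

end H1B
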